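import Cfsg.Agent.H6.ON.Pres
import Cfsg.Agent.H6.ON.Chk0
import Cfsg.Agent.H6.ON.Chk1
import Cfsg.Agent.H6.ON.Chk2
import Cfsg.Agent.H6.ON.Chk3
import Cfsg.Agent.H6.ON.Chk4
import Cfsg.Agent.H6.ON.Chk5
import Cfsg.Agent.H6.ON.Chk6

set_option autoImplicit false
set_option maxRecDepth 100000
set_option Elab.async false

namespace Cfsg.H6.ON

theorem ptOK : PtOK img 122760 LS EQS := ptOK_of_chk fun p h1 h2 => by
  rw [← ptU_eq]
  exact (range_join (range_join (range_join (range_join (range_join (allR_range p0 (by norm_num : 0 + 2560 = 2560)) (range_join (allR_range p1 (by norm_num : 2560 + 2560 = 5120)) (allR_range p2 (by norm_num : 5120 + 2560 = 7680)))) (range_join (allR_range p3 (by norm_num : 7680 + 2560 = 10240)) (range_join (allR_range p4 (by norm_num : 10240 + 2560 = 12800)) (allR_range p5 (by norm_num : 12800 + 2560 = 15360))))) (range_join (range_join (allR_range p6 (by norm_num : 15360 + 2560 = 17920)) (range_join (allR_range p7 (by norm_num : 17920 + 2560 = 20480)) (allR_range p8 (by norm_num : 20480 + 2560 = 23040)))) (range_join (allR_range p9 (by norm_num : 23040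 + 2560 = 25600)) (range_join (allR_range p10 (by norm_num : 25600 + 2560 = 28160)) (allR_range p11 (by norm_num : 28160 + 2560 = 30720)))))) (range_join (range_join (range_join (allR_range p12 (by norm_num : 30720 + 2560 = 33280)) (range_join (allR_range p13 (by norm_num : 33280 + 2560 = 35840)) (allR_range p14 (by norm_num : 35840 + 2560 = 38400)))) (range_join (allR_range p15 (by norm_num : 38400 + 2560 = 40960)) (range_join (allR_range p16 (by norm_num : 40960 + 2560 = 43520)) (allR_range p17 (by norm_num : 43520 + 2560 = 46080))))) (range_join (range_join (allR_range p18 (by norm_num : 46080 + 2560 = 48640)) (range_join (allR_range p19 (by norm_num : 48640 + 2560 = 51200)) (allR_range p20 (by norm_num : 51200 + 2560 = 53760)))) (range_join (allR_range p21 (by norm_num : 53760 + 2560 = 56320)) (range_join (allR_range p22 (by norm_num : 56320 + 2560 = 58880)) (allR_range p23 (by norm_num : 58880 + 2560 = 61440))))))) (range_join (range_join (range_join (range_join (allR_range p24 (by norm_num : 61440 + 2560 = 64000)) (range_join (allR_range p25 (by norm_num : 64000 + 2560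 = 66560)) (allR_range p26 (by norm_num : 66560 + 2560 = 69120)))) (range_join (allR_range p27 (by norm_num : 69120 + 2560 = 71680)) (range_join (allR_range p28 (by norm_num : 71680 + 2560 = 74240)) (allR_range p29 (by norm_num : 74240 + 2560 = 76800))))) (range_join (range_join (allR_range p30 (by norm_num : 76800 + 2560 = 79360)) (range_join (allR_range p31 (by norm_num : 79360 + 2560 = 81920)) (allR_range p32 (by norm_num : 81920 + 2560 = 84480)))) (range_join (allR_range p33 (by norm_num : 84480 + 2560 = 87040)) (range_join (allR_range p34 (by norm_num : 87040 + 2560 = 89600)) (allR_range p35 (by norm_num : 89600 + 2560 = 92160)))))) (range_join (range_join (range_join (allR_range p36 (by norm_num : 92160 + 2560 = 94720)) (range_join (allR_range p37 (by norm_num : 94720 + 2560 = 97280)) (allR_range p38 (by norm_num : 97280 + 2560 = 99840)))) (range_join (allR_range p39 (by norm_num : 99840 + 2560 = 102400)) (range_join (allR_range p40 (by norm_num : 102400 + 2560 = 104960)) (allR_range p41 (by norm_num : 104960 + 2560 = 107520))))) (range_join (range_join (allR_range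 p42 (by norm_num : 107520 + 2560 = 110080)) (range_join (allR_range p43 (by norm_num : 110080 + 2560 = 112640)) (allR_range p44 (by norm_num : 112640 + 2560 = 115200)))) (range_join (allR_range p45 (by norm_num : 115200 + 2560 = 117760)) (range_join (allR_range p46 (by norm_num : 117760 + 2560 = 120320)) (allR_range p47 (by norm_num : 120320 + 2440 = 122760)))))))) p h1 h2

theorem hrep : repOK 9 129705363632919019776 LS EQS D ON.R = true := by decide +kernel

theorem rep : Good (evR img 122760 9) 129705363632919019776 ∧ Rels (evR img 122760 9) ON.R ∧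
    IsAct (MonoidHom.id _) (evR img 122760 9) img 122760 9 := rep_sound ptOK hrep

theorem iv0 {G : Type*} [Group G] {φ : G →* Equiv.Perm ℕ} {ev : ℕ → G} (h : IsAct φ ev img 122760 9) :
    orb φ (gen ev Ws) 1 = Set.Ico 1 5587 :=
  ivl_sound h (by decide +kernel) (allR_range q0_0 (by norm_num : 1 + 5586 = 5587))

theorem iv1 {G : Type*} [Group G] {φ : G →* Equiv.Perm ℕ} {ev : ℕ → G} (h : IsAct φ ev img 122760 9) :
    orb φ (gen ev Ws) 5587 = Set.Ico 5587 11971 :=
  ivl_sound h (by decide +kernel) (allR_range q1_0 (by norm_num : 5587 + 6384 = 11971))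

theorem iv2 {G : Type*} [Group G] {φ : G →* Equiv.Perm ℕ} {ev : ℕ → G} (h : IsAct φ ev img 122760 9) :
    orb φ (gen ev Ws) 11971 = Set.Ico 11971 64107 :=
  ivl_sound h (by decide +kernel) (range_join (allR_range q2_0 (by norm_num : 11971 + 33333 = 45304)) (allR_range q2_1 (by norm_num : 45304 + 18803 = 64107)))

theorem iv3 {G : Type*} [Group G] {φ : G →* Equiv.Perm ℕ} {ev : ℕ → G} (h : IsAct φ ev img 122760 9) :
    orb φ (gen ev Ws) 64107 = Set.Ico 64107 122760 :=
  ivl_sound h (by decide +kernel) (range_join (allR_range q3_0 (by norm_num : 64107 + 33333 = 97440)) (allR_range q3_1 (by norm_num : 97440 + 25320 = 122760)))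


end Cfsg.H6.ON
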